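import Cfsg.Agent.SB.Fld.Comm
import Cfsg.Agent.DS.Cl.Basic

/-!
# N2, involutions of the second kind: every symmetric unit is a norm (helper52)
-/

set_option autoImplicit false

namespace Cfsg.Agent.N2C.FldLU

open Cfsg.Agent.DS.Cl Cfsg.Agent.SB.Fld

theorem exists_sq_sub {E : Type*} [Field E] [Finite E] {d : E} (hd : d ≠ 0) (s : E) : ∃ a b : E, a ^ 2 - d * b ^ 2 = s := by
  have := Fintype.ofFinite E
  rcases Nat.mod_two_eq_zero_or_one (Fintype.card E) with h2 | h2
  · obtain ⟨a, ha⟩ := FiniteField.isSquare_of_char_two (FiniteField.even_card_iff_char_two.2 h2) s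
    exact ⟨a, 0, by rw [ha]; ring⟩
  · obtain ⟨a, b, hab⟩ := FiniteField.exists_root_sum_quadratic (R := E)
      (f := Polynomial.X ^ 2 - Polynomial.C s) (g := Polynomial.C (-d) * Polynomial.X ^ 2)
      (Polynomial.degree_X_pow_sub_C (by norm_num) _) (Polynomial.degree_C_mul_X_pow 2 (neg_ne_zero.2 hd)) h2
    simp only [Polynomial.eval_sub, Polynomial.eval_pow, Polynomial.eval_X, Polynomial.eval_C,
      Polynomial.eval_mul] at hab
    exact ⟨a, b, by linear_combination hab⟩

section comm

variable {R : Type*} [CommRing R] [StarRing R]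

/-- lifting along nilpotent elements -/
theorem norm_nil {c s : R} (hc : c + star c = 1) (hs : star s = s) (hu : IsUnit s) (k : ℕ) :
    ∀ g : R, (g * star g - s) ^ 2 ^ k = 0 → ∃ h : R, h * star h = s := by
  obtain ⟨t, ht⟩ := hu.exists_right_inv
  induction k with
  | zero => exact fun g hg => ⟨g, sub_eq_zero.1 (by simpa using hg)⟩
  | succ k ih =>
    intro g hg
    have h1 : star (g * star g - s) = g * star g - s := by rw [star_sub, star_mul', star_star, hs, mul_comm]
    have h2 : s * star t = 1 := by rw [← hs, ← star_mul', ht, star_one]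
    have h3 : star t = t := by linear_combination t * h2 - star t * ht
    generalize hν : g * star g - s = ν at hg h1
    refine ih (g * (1 - c * ν * t)) ?_
    have h4 : g * (1 - c * ν * t) * star (g * (1 - c * ν * t)) - s = ν ^ 2 * (c * star c * t ^ 2 * (s + ν) - t) := by
      rw [star_mul', star_sub, star_one, star_mul', star_mul', h1, h3]
      linear_combination (1 - c * ν * t) * (1 - star c * ν * t) * hν - (s + ν) * ν * t * hc - ν * ht
    rw [h4, mul_pow, ← pow_mul, ← pow_succ', hg, zero_mul]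

theorem norm_comm [Finite R] {θ s : R} (hθ : IsUnit (θ - star θ)) (hs : star s = s) (hu : IsUnit s) :
    ∃ h : R, h * star h = s := by
  obtain ⟨y, hy⟩ := hθ.exists_right_inv
  have h1 : star (θ - star θ) = -(θ - star θ) := by rw [star_sub, star_star, neg_sub]
  have h2 : -(θ - star θ) * star y = 1 := by rw [← h1, ← star_mul', hy, star_one]
  have h3 : star y = -y := by linear_combination -y * h2 - star y * hy
  have hc : θ * y + star (θ * y) = 1 := by rw [star_mul', h3]; linear_combination hy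
  have h4 : (θ - star θ) ^ 2 ∈ sym R := by rw [mem_sym, star_pow, h1, neg_sq]
  have h5 : y ^ 2 ∈ sym R := by rw [mem_sym, star_pow, h3, neg_sq]
  have h6 : (⟨_, h4⟩ : sym R) * ⟨_, h5⟩ = 1 := Subtype.ext (show (θ - star θ) ^ 2 * y ^ 2 = 1 by rw [← mul_pow, hy, one_pow])
  have : Finite (Ideal (sym R)) := Finite.of_injective (fun I : Ideal (sym R) => (I : Set (sym R))) SetLike.coe_injective
  have : Finite (MaximalSpectrum (sym R)) := Finite.of_injective _ fun _ _ => MaximalSpectrum.ext
  have key : ∀ M : MaximalSpectrum (sym R), ∃ a b : sym R ⧸ M.asIdeal,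
      a ^ 2 - Ideal.Quotient.mk _ ⟨_, h4⟩ * b ^ 2 = Ideal.Quotient.mk _ ⟨s, hs⟩ := fun M => by
    have := M.isMaximal
    let _ := Ideal.Quotient.field M.asIdeal
    have : Finite (sym R ⧸ M.asIdeal) := Finite.of_surjective _ Ideal.Quotient.mk_surjective
    exact exists_sq_sub (left_ne_zero_of_mul_eq_one (by rw [← map_mul, h6, map_one])) _
  choose a b hab using key
  have hco : Pairwise (Function.onFun IsCoprime fun M : MaximalSpectrum (sym R) => M.asIdeal) := fun M N h =>
    Ideal.isCoprime_iff_sup_eq.2 (M.isMaximal.coprime_of_ne N.isMaximal fun e => h (MaximalSpectrum.ext e))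
  obtain ⟨a₀, ha⟩ := Ideal.pi_quotient_surjective hco a
  obtain ⟨b₀, hb⟩ := Ideal.pi_quotient_surjective hco b
  obtain ⟨k, hk⟩ : IsNilpotent (a₀ ^ 2 - ⟨_, h4⟩ * b₀ ^ 2 - ⟨s, hs⟩ : sym R) := nilpotent_iff_mem_prime.2 fun J hJ =>
    Ideal.Quotient.eq.1 (by
      have h7 := hab ⟨J, IsArtinianRing.isMaximal_of_isPrime J⟩
      rwa [← ha, ← hb, ← map_pow, ← map_pow, ← map_mul, ← map_sub] at h7)
  have h7 : ((a₀ : R) ^ 2 - (θ - star θ) ^ 2 * (b₀ : R) ^ 2 - s) ^ k = 0 := congrArg Subtype.val hk
  refine norm_nil hc hs hu k (a₀ + (θ - star θ) * b₀) (pow_eq_zero_of_le Nat.lt_two_pow_self.le ?_)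
  rw [← h7, star_add, star_mul', h1, mem_sym.1 a₀.2, mem_sym.1 b₀.2]
  congr 1
  ring

end comm

/-- **every symmetric unit is a norm** -/
theorem norm_sym {A : Type} [Ring A] [StarRing A] [Finite A] {θ s : A} (h1 : θ ∈ Subring.center A)
    (h2 : IsUnit (θ - star θ)) (hs : star s = s) (hu : IsUnit s) :
    ∃ g : Aˣ, star (g : A) * g = s ∧ ∀ x, s * x = x * s → (g : A) * x = x * g := by
  let C := Subring.centralizer ({s} : Set A)
  let R := Subring.centralizer (C : Set A)
  have mC : ∀ {x}, x ∈ C ↔ s * x = x * s := fun {x} => ⟨fun h => h s rfl, by rintro h _ rfl; exact h⟩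
  have sR : s ∈ R := fun x hx => (mC.1 hx).symm
  have hc : ∀ x ∈ R, ∀ y ∈ R, x * y = y * x := fun x hx y hy => hy x (mC.2 (hx s (mC.2 rfl)))
  have st : ∀ x ∈ R, star x ∈ R := fun x hx y hy => by
    have h3 := congrArg star (mC.1 hy)
    rw [star_mul, star_mul, hs] at h3
    have h4 := congrArg star (hx _ (mC.2 h3.symm))
    rw [star_mul, star_mul, star_star] at h4
    exact h4.symm
  have cR : ∀ {x}, x ∈ Subring.center A → x ∈ R := fun hx y _ => cen_comm hx y
  let _ : CommRing R := { (inferInstance : Ring R) with mul_comm := fun x y => Subtype.ext (hc _ x.2 _ y.2) }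
  let _ : StarRing R :=
    { star := fun x => ⟨star x.1, st _ x.2⟩
      star_involutive := fun x => Subtype.ext (star_star x.1)
      star_mul := fun x y => Subtype.ext (star_mul x.1 y.1)
      star_add := fun x y => Subtype.ext (star_add x.1 y.1) }
  have un : ∀ x : R, IsUnit x.1 → IsUnit x := fun x hx => by
    obtain ⟨y, hy⟩ := Finite.surjective_of_injective (f := fun y => x * y)
      (fun y z e => Subtype.ext (hx.mul_left_cancel (congrArg Subtype.val e))) 1
    exact IsUnit.of_mul_eq_one y hy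
  obtain ⟨g, hg⟩ := norm_comm (R := R) (θ := ⟨θ, cR h1⟩) (s := ⟨s, sR⟩) (un _ h2) (Subtype.ext hs) (un _ hu)
  rw [mul_comm] at hg
  have h3 : star g.1 * g.1 = s := congrArg Subtype.val hg
  have h4 : IsUnit g.1 := (isUnit_of_mul_isUnit_right (hg ▸ un ⟨s, sR⟩ hu)).map R.subtype
  exact ⟨h4.unit, h3, fun x hx => (g.2 x (mC.2 hx)).symm⟩

end Cfsg.Agent.N2C.FldLU
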