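import Cfsg.Agent.N2.Cl.FldLU.ExL
import Cfsg.Agent.N2.Cl.FldLU.Norm
import Cfsg.Agent.N2.Cl.Cyc.Ord

/-!
# N2, field extension subgroups of the unitary groups (helper52)

`V` is free over `W + W θ` (`free`), so `V = L ⊕ θ L` for an extension field `L` of `W`.  `L` is self-adjoint for a second
hermitian form `b (x, s y)`; write `s = g* g` and conjugate `L` by `g` (`exists_symm`).
-/

set_option autoImplicit false

namespace Cfsg.Agent.N2C

namespace FldLU

open Cfsg.Agent.DS.Cl Cfsg.Agent.DS.Cl.Fwd Cfsg.Agent.SB.C2 Cfsg.Agent.SB.Fld Cfsg.Agent.TH.Cl.Fld Module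

variable {K V : Type} [Field K] [Finite K] [AddCommGroup V] [Module K V] [Finite V] {h : HF K V} {θ : K}
  {W : Subring h.EB}

theorem sc_mem {k : K} (hk : h.τ k = k) : h.eb (k • 1) ∈ C0 h.EB := ⟨h.smul_mem_center k, by rw [star_smul_one, hk]⟩

/-- eigenspaces are totally isotropic -/
theorem b_eig {w : h.EB} (hw : star w = w) (hθ : h.τ θ ≠ θ) {x y : V} (hx : h.ap w x = θ • x) (hy : h.ap w y = θ • y) :
    h.b x y = 0 := by
  have h1 := h.b_star w x y
  rw [hw, hx, hy, h.smul_left, h.smul_right] at h1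
  exact (mul_eq_mul_right_iff.1 h1).resolve_left hθ

theorem card_eig {w : h.EB} (hw : star w = w) (hθ : h.τ θ ≠ θ)
    (hd : ∀ x, ∃ y z, h.ap w y = θ • y ∧ h.ap w z = h.τ θ • z ∧ x = y + z) :
    Nat.card {x // h.ap w x = h.τ θ • x} ≤ Nat.card {x // h.ap w x = θ • x} := by
  let U : Submodule K V :=
    { carrier := {x | h.ap w x = θ • x}
      add_mem' := fun {a b} (ha : _ = _) (hb : _ = _) => show _ = _ by rw [map_add, ha, hb, smul_add]
      zero_mem' := show _ = _ by rw [map_zero, smul_zero]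
      smul_mem' := fun c a (ha : _ = _) => show _ = _ by rw [map_smul, ha, smul_comm] }
  have : Module.Finite K U := Module.Finite.of_finite
  have : Finite (Dual K U) := Module.finite_of_finite K
  refine (Nat.card_le_card_of_injective (fun y => ((h.lin y.1).domRestrict U : Dual K U)) fun a b e =>
    Subtype.ext (h.ext_right fun x => ?_)).trans (le_of_eq ?_)
  · obtain ⟨y, z, hy, hz, rfl⟩ := hd x
    have h1 : h.τ (h.τ θ) ≠ h.τ θ := by rw [h.τ_τ]; exact hθ.symm
    rw [h.add_left, h.add_left, b_eig hw h1 hz a.2, b_eig hw h1 hz b.2]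
    exact congrArg (· + 0) (LinearMap.congr_fun e ⟨y, hy⟩)
  · rw [Module.natCard_eq_pow_finrank (K := K), Subspace.dual_finrank_eq, ← Module.natCard_eq_pow_finrank]
    rfl

/-- `V` is free over `W + W θ` -/
theorem free [Nontrivial V] (hθ : h.τ θ ≠ θ) (hW : IsF W) (h0 : C0 h.EB ≤ W) (hs : ∀ w ∈ W, star w = w) :
    ∃ (L : Type) (_ : Field L) (ι : W →+* L) (e : L →+ V), (∀ w a, e (ι w * a) = h.ap w (e a)) ∧
      Function.Bijective fun m : L × L => e m.1 + θ • e m.2 := by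
  have := h.ss.nontrivial
  let := hW.isField.toField
  let : Module W V := Module.compHom V ((prU h).comp W.subtype)
  have hsm : ∀ (w : W) (x : V), w • x = h.ap w x := fun _ _ => rfl
  suffices H : ∃ (M : Type) (_ : AddCommGroup M) (_ : Module W M) (e : M →ₗ[W] V),
      (∀ a b, e a + θ • e b = 0 → a = 0 ∧ b = 0) ∧ Nat.card V ≤ Nat.card M ^ 2 by
    obtain ⟨M, _, _, e, h1, h2⟩ := H
    have h3 : Function.Injective fun m : M × M => e m.1 + θ • e m.2 := fun m m' (k : _ + _ = _ + _) => by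
      obtain ⟨k1, k2⟩ := h1 (m.1 - m'.1) (m.2 - m'.2) (by rw [map_sub, map_sub, smul_sub, sub_add_sub_comm, k, sub_self])
      exact Prod.ext (sub_eq_zero.1 k1) (sub_eq_zero.1 k2)
    have : Finite (M × M) := Finite.of_injective _ h3
    have : Finite M := Finite.of_injective (fun m : M => (m, m)) fun _ _ k => congrArg Prod.fst k
    have h4 := h3.bijective_of_nat_card_le (by rwa [Nat.card_prod, ← pow_two])
    have : Nontrivial M := by
      by_contra k
      have := not_nontrivial_iff_subsingleton.1 k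
      exact not_subsingleton V h4.2.subsingleton
    obtain ⟨L, _, ι, f, hf⟩ := exists_L W M
    exact ⟨L, _, ι, e.toAddMonoidHom.comp f, fun w a => (congrArg e (hf w a)).trans (e.map_smul w _),
      h4.comp (f.prodCongr f).bijective⟩
  have hq := qd_of (luU h hθ).θ_cen (luU h hθ).θ_unit hW hs h0
  have d0 : θ - h.τ θ ≠ 0 := sub_ne_zero.2 hθ.symm
  by_cases hz : ∃ w ∈ W, star (h.eb (θ • 1) - w) * (h.eb (θ • 1) - w) = 0
  · obtain ⟨w, hw, e⟩ := hz
    rw [star_sub, star_smul_one, hs w hw] at e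
    have a1 : ∀ x, h.τ θ • (θ • x - h.ap w x) - h.ap w (θ • x - h.ap w x) = 0 := fun x => LinearMap.congr_fun e x
    have a2 : ∀ x, ∃ y z, h.ap w y = θ • y ∧ h.ap w z = h.τ θ • z ∧ x = y + z := fun x => by
      refine ⟨(θ - h.τ θ)⁻¹ • (h.ap w x - h.τ θ • x), (θ - h.τ θ)⁻¹ • (θ • x - h.ap w x), ?_, ?_, ?_⟩
      · have a2 := a1 x
        rw [map_sub, map_smul] at a2
        rw [map_smul, smul_comm θ, map_sub, map_smul]
        congr 1
        linear_combination (norm := module) a2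
      · rw [map_smul, smul_comm (h.τ θ), sub_eq_zero.1 (a1 x)]
      · rw [← smul_add, sub_add_sub_cancel', ← sub_smul, smul_smul, inv_mul_cancel₀ d0, one_smul]
    let S : K → Submodule W V := fun k =>
      { carrier := {x | h.ap w x = k • x}
        add_mem' := fun {a b} (ha : _ = _) (hb : _ = _) => show _ = _ by rw [map_add, ha, hb, smul_add]
        zero_mem' := show _ = _ by rw [map_zero, smul_zero]
        smul_mem' := fun c a (ha : _ = _) => show _ = _ by
          rw [hsm, ← h.ap_mul, hW.comm w hw _ c.2, h.ap_mul, ha, map_smul] }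
    have a3 : Nat.card (S θ) = Nat.card (S (h.τ θ)) := le_antisymm (by
      have a3 := card_eig (θ := h.τ θ) (hs w hw) (by rw [h.τ_τ]; exact hθ.symm) fun x => by
        obtain ⟨y, z, hy, hz, e⟩ := a2 x
        exact ⟨z, y, hz, by rwa [h.τ_τ], e.trans (add_comm y z)⟩
      rwa [h.τ_τ] at a3) (card_eig (hs w hw) hθ a2)
    have : Module.Finite W V := Module.Finite.of_finite
    let ψ := LinearEquiv.ofFinrankEq (R := W) (S θ) (S (h.τ θ)) (Nat.pow_right_injective (two_le_card W)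
      (Module.natCard_eq_pow_finrank.symm.trans (a3.trans Module.natCard_eq_pow_finrank)))
    refine ⟨S θ, _, _, (S θ).subtype + (S (h.τ θ)).subtype ∘ₗ ψ.toLinearMap, fun a b (k : (a.1 + (ψ a).1) +
      θ • (b.1 + (ψ b).1) = 0) => ?_, ?_⟩
    · have b1 : h.ap w b.1 = θ • b.1 := b.2
      have b2 : h.ap w (ψ b).1 = h.τ θ • (ψ b).1 := (ψ b).2
      have b3 := congrArg (h.ap w) k
      rw [map_add, map_add, map_smul, map_add, map_zero, show h.ap w a.1 = _ from a.2, show h.ap w (ψ a).1 = _ from (ψ a).2,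
        b1, b2] at b3
      have b4 : a.1 + θ • b.1 = 0 := (smul_eq_zero_iff_right d0).1 (by
        linear_combination (norm := module) b3 - h.τ θ • k)
      have b5 : a = -((⟨w, hw⟩ : W) • b) := Subtype.ext ((eq_neg_of_add_eq_zero_left b4).trans (congrArg Neg.neg b1.symm))
      have b6 : (ψ a).1 = -(h.τ θ • (ψ b).1) := by rw [b5, map_neg, map_smul, ← b2]; rfl
      have b7 : ψ b = 0 := Subtype.ext ((smul_eq_zero_iff_right d0).1 (by
        linear_combination (norm := module) k - b4 - b6))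
      rw [ψ.map_eq_zero_iff] at b7
      exact ⟨by rw [b5, b7, smul_zero, neg_zero], b7⟩
    · rw [pow_two]
      nth_rw 2 [a3]
      rw [← Nat.card_prod]
      refine Nat.card_le_card_of_surjective (fun m => m.1.1 + m.2.1) fun x => ?_
      obtain ⟨y, z, hy, hz, e⟩ := a2 x
      exact ⟨(⟨y, hy⟩, ⟨z, hz⟩), e.symm⟩
  have a1 : IsF (Zt W (h.eb (θ • 1))) := ⟨hq.mul_comm, fun z hz' z0 => by
    obtain ⟨a, ha, b, hb, rfl⟩ := hq.mem_iff.1 hz'
    by_cases b0 : b = 0
    · rw [b0, zero_mul, add_zero] at z0 ⊢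
      exact (hW.inv a ha z0).imp fun y hy => ⟨le_Zt hy.1, hy.2⟩
    obtain ⟨b', hb', e⟩ := hW.inv b hb b0
    have a1 := neg_mem (mul_mem hb' ha)
    obtain ⟨y, hy, -, e'⟩ := hq.exists_inv (sub_mem self_mem_Zt (le_Zt a1)) fun k => hz ⟨_, a1, k⟩
    exact ⟨y * b', mul_mem hy (le_Zt hb'), by
      rw [show a + b * h.eb (θ • 1) = b * (h.eb (θ • 1) - -(b' * a)) by
        rw [sub_neg_eq_add, mul_add, ← mul_assoc, e, one_mul, add_comm], mul_assoc, ← mul_assoc _ y, e', one_mul, e]⟩⟩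
  let := a1.isField.toField
  let : Module (Zt W (h.eb (θ • 1))) V := Module.compHom V ((prU h).comp (Subring.subtype _))
  have : Module.Finite (Zt W (h.eb (θ • 1))) V := Module.Finite.of_finite
  let v := Module.finBasis (Zt W (h.eb (θ • 1))) V
  refine ⟨_ → W, _, _, Fintype.linearCombination W v, fun a b k => ?_, ?_⟩
  · have b1 := Fintype.linearIndependent_iff.1 v.linearIndependent
      (fun i => ⟨a i + b i * h.eb (θ • 1), hq.mem_iff.2 ⟨_, (a i).2, _, (b i).2, rfl⟩⟩) (by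
        rw [← k, Fintype.linearCombination_apply, Fintype.linearCombination_apply, Finset.smul_sum, ← Finset.sum_add_distrib]
        exact Finset.sum_congr rfl fun i _ => congrArg (h.ap (a i) (v i) + ·) ((h.ap (b i)).map_smul θ (v i)))
    have b2 : ∀ i, (a i : h.EB) + b i * h.eb (θ • 1) = 0 := fun i => congrArg Subtype.val (b1 i)
    have b3 : ∀ i, (b i : h.EB) = 0 := fun i => hq.unit.mul_left_eq_zero.1 (by
      rw [← hq.sub_star (a i).2 (b i).2, b2, star_zero, sub_zero])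
    exact ⟨funext fun i => Subtype.ext (show (a i : h.EB) = 0 by simpa only [b3, zero_mul, add_zero] using b2 i),
      funext fun i => Subtype.ext (b3 i)⟩
  · rw [Module.natCard_eq_pow_finrank (K := Zt W (h.eb (θ • 1))), hq.card_eq, Nat.card_fun, Nat.card_fin, ← pow_mul,
      ← pow_mul, mul_comm]

/-- two forms -/
theorem exists_rel (h h' : HF K V) (hτ : h'.τ = h.τ) : ∃ s : h.EB, IsUnit s ∧ ∀ x y, h.b x (h.ap s y) = h'.b x y := by
  have a1 : ∀ y x, h.b x (h.exists_rep (h'.lin y)).choose = h'.b x y := fun y => (h.exists_rep (h'.lin y)).choose_spec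
  let s : End K V :=
    { toFun := fun y => (h.exists_rep (h'.lin y)).choose
      map_add' := fun y z => h.ext_right fun x => by rw [h.add_right, a1, a1, a1, h'.add_right]
      map_smul' := fun c y => h.ext_right fun x => by rw [RingHom.id_apply, h.smul_right, a1, a1, h'.smul_right, hτ] }
  refine ⟨h.eb s, (End.isUnit_iff s).2 (Finite.injective_iff_bijective.1 fun y z (e : s y = s z) =>
    h'.ext_right fun x => ?_), fun x y => a1 y x⟩
  exact (a1 y x).symm.trans ((congrArg (h.b x) e).trans (a1 z x))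

/-- the self-adjoint field -/
theorem exists_symm (hε : h.ε = 1) (hθ : h.τ θ ≠ θ) (h0 : C0 h.EB ≤ W) (hs : ∀ w ∈ W, star w = w) {L : Type} [Field L]
    (ι : W →+* L) (e : L →+ V) (he : ∀ w a, e (ι w * a) = h.ap w (e a))
    (hb : Function.Bijective fun m : L × L => e m.1 + θ • e m.2) :
    ∃ (μ : L →+* h.EB) (v : V), (∀ l, star (μ l) = μ l) ∧ (∀ w : W, μ (ι w) = w) ∧
      ∀ x, ∃ a b, h.ap (μ a) v + θ • h.ap (μ b) v = x := by
  have d0 : θ - h.τ θ ≠ 0 := sub_ne_zero.2 hθ.symm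
  let Φ : L × L ≃+ V := AddEquiv.ofBijective (e.coprod ((DistribSMul.toAddMonoidHom V θ).comp e)) hb
  have hΦ : ∀ m, Φ m = e m.1 + θ • e m.2 := fun _ => rfl
  let K0 := RingHom.eqLocusField h.τ (RingHom.id K)
  let s : K0 →+* L := ι.comp (RingHom.codRestrict (R := K0) (S := h.EB) ((algebraMap K (End K V)).comp K0.subtype) W
    fun k => h0 (sc_mem k.2))
  have a0 : ∀ (k : K0) a, e (s k * a) = (k : K) • e a := fun k a => he _ a
  let T : K0 := ⟨θ + h.τ θ, show h.τ _ = _ by rw [map_add, h.τ_τ, add_comm]; rfl⟩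
  let N : K0 := ⟨θ * h.τ θ, show h.τ _ = _ by rw [map_mul, h.τ_τ, mul_comm]; rfl⟩
  let J : L × L →ₗ[L] L × L := LinearMap.prod (-(s N • LinearMap.snd L L L)) (LinearMap.fst L L L + s T • LinearMap.snd L L L)
  have hJ : ∀ m, J m = (-(s N * m.2), m.1 + s T * m.2) := fun _ => rfl
  have a1 : ∀ (k : K0) m, Φ (s k • m) = (k : K) • Φ m := fun k m => by
    rw [hΦ, hΦ, Prod.smul_fst, Prod.smul_snd, smul_eq_mul, smul_eq_mul, a0, a0, smul_add, smul_comm θ]
  have a2 : ∀ m, Φ (J m) = θ • Φ m := fun m => by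
    rw [hJ, hΦ, hΦ, map_neg, map_add, a0, a0]
    change -((θ * h.τ θ) • e m.2) + θ • (e m.1 + (θ + h.τ θ) • e m.2) = _
    module
  have a3 : ∀ k : K, ∃ k₁ k₂ : K0, k = k₁ + k₂ * θ := fun k => by
    have b1 : h.τ ((k - h.τ k) / (θ - h.τ θ)) = (k - h.τ k) / (θ - h.τ θ) := by
      rw [map_div₀, map_sub, map_sub, h.τ_τ, h.τ_τ, ← neg_div_neg_eq, neg_sub, neg_sub]
    refine ⟨⟨k - (k - h.τ k) / (θ - h.τ θ) * θ, show h.τ _ = k - _ from ?_⟩, ⟨_, b1⟩, (sub_add_cancel _ _).symm⟩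
    rw [map_sub, map_mul, b1]
    field_simp
    ring
  have a4 : ∀ (k₁ k₂ : K0) m, Φ (s k₁ • m + s k₂ • J m) = ((k₁ : K) + k₂ * θ) • Φ m := fun k₁ k₂ m => by
    rw [map_add, a1, a1, a2, add_smul, mul_smul]
  obtain ⟨μ, hμ⟩ := exists_mu (K := K) (L := L) Φ fun k => by
    obtain ⟨k₁, k₂, rfl⟩ := a3 k
    exact ⟨s k₁ • LinearMap.id + s k₂ • J, a4 k₁ k₂⟩
  let := s.toAlgebra
  obtain ⟨φ, hφ⟩ : ∃ φ : Dual K0 L, φ 1 ≠ 0 := not_forall.1 fun k => one_ne_zero ((forall_dual_apply_eq_zero_iff K0 _).1 k)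
  obtain ⟨ψ, hψ⟩ : ∃ ψ : L →+ K, ∀ a, ψ a = φ a := ⟨K0.subtype.toAddMonoidHom.comp φ.toAddMonoidHom, fun _ => rfl⟩
  have b1 : ∀ (k : K0) a, ψ (s k * a) = k * ψ a := fun k a => by
    rw [hψ, hψ]
    exact congrArg Subtype.val (φ.map_smul k a)
  have b2 : ∀ a, h.τ (ψ a) = ψ a := fun a => by rw [hψ]; exact (φ a).2
  have b3 : ∀ c, (∀ a, ψ (a * c) = 0) → c = 0 := fun c k => by
    by_contra c0
    exact hφ (Subtype.ext ((hψ 1).symm.trans (inv_mul_cancel₀ c0 ▸ k c⁻¹)))
  let β : L × L → L × L → K := fun m n =>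
    ψ (m.1 * n.1) + θ * ψ (m.2 * n.1) + h.τ θ * ψ (m.1 * n.2) + θ * h.τ θ * ψ (m.2 * n.2)
  have c1 : ∀ m m' n, β (m + m') n = β m n + β m' n := fun m m' n => by
    simp only [β, Prod.fst_add, Prod.snd_add, add_mul, map_add]
    ring
  have c2 : ∀ (k : K0) m n, β (s k • m) n = k * β m n := fun k m n => by
    simp only [β, Prod.smul_fst, Prod.smul_snd, smul_eq_mul, mul_assoc, b1]
    ring
  have c3 : ∀ m n, β (J m) n = θ * β m n := fun m n => by
    simp only [β, hJ, add_mul, neg_mul, map_add, map_neg, mul_assoc, b1, T, N]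
    ring
  have c4 : ∀ (l : L) m n, β (l • m) n = β m (l • n) := fun l m n => by
    simp only [β, Prod.smul_fst, Prod.smul_snd, smul_eq_mul, mul_assoc, mul_left_comm l]
  let h' : HF K V :=
    { τ := h.τ
      ε := 1
      b := fun x y => β (Φ.symm x) (Φ.symm y)
      add_left := fun x x' y => by rw [map_add, c1]
      smul_left := fun k x y => by
        obtain ⟨k₁, k₂, rfl⟩ := a3 k
        obtain ⟨m, rfl⟩ := Φ.surjective x
        rw [← a4, Φ.symm_apply_apply, Φ.symm_apply_apply, c1, c2, c2, c3]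
        ring
      swap := fun x y => by
        simp only [β, map_add, map_mul, b2, h.τ_τ, mul_comm (Φ.symm y).1, mul_comm (Φ.symm y).2]
        ring
      τ_τ := h.τ_τ
      nondeg := fun y k => by
        have k1 : ∀ a, ψ (a * (Φ.symm y).1) + h.τ θ * ψ (a * (Φ.symm y).2) = 0 := fun a => by
          simpa only [β, Φ.symm_apply_apply, zero_mul, map_zero, mul_zero, add_zero] using k (Φ (a, 0))
        have k2 : (Φ.symm y).2 = 0 := b3 _ fun a => (mul_eq_zero_iff_left d0).1 (by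
          have k2 := congrArg h.τ (k1 a)
          rw [map_add, map_mul h.τ, b2, b2, h.τ_τ, map_zero] at k2
          linear_combination k2 - k1 a)
        have k3 : (Φ.symm y).1 = 0 := b3 _ fun a => by simpa only [k2, mul_zero, map_zero, add_zero] using k1 a
        exact Φ.symm.map_eq_zero_iff.1 (Prod.ext k3 k2) }
  obtain ⟨t, t1, t2⟩ := exists_rel h h' rfl
  have t3 : star t = t := h.ap_ext fun y => h.ext_right fun x => by
    rw [h.b_star, h.swap, t2, t2, h'.swap y x, hε]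
  have t4 : ∀ l, star (h.eb (μ l)) * t = t * h.eb (μ l) := fun l => h.ap_ext fun y => h.ext_right fun x => by
    obtain ⟨m, rfl⟩ := Φ.surjective x
    obtain ⟨n, rfl⟩ := Φ.surjective y
    rw [h.ap_mul, h.ap_mul, h.b_star, t2, t2, h.ap_eb, hμ, hμ]
    simp only [h', Φ.symm_apply_apply, c4]
  have t5 : ∀ w : W, h.eb (μ (ι w)) = w := fun w => h.ap_ext fun x => by
    obtain ⟨m, rfl⟩ := Φ.surjective x
    rw [h.ap_eb, hμ, hΦ, hΦ, Prod.smul_fst, Prod.smul_snd, smul_eq_mul, smul_eq_mul, he, he, map_add, map_smul]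
  obtain ⟨g, g1, g2⟩ := norm_sym (luU h hθ).θ_cen (luU h hθ).θ_unit t3 t1
  have g3 : ∀ l, cj h.EB g (h.eb (μ l)) * g = g * h.eb (μ l) := fun l => cj_mul_eq g _
  refine ⟨(cj h.EB g : h.EB →+* h.EB).comp μ, h.ap g (Φ (1, 0)), fun l => ?_, fun w => ?_, fun x => ?_⟩
  · refine g.isUnit.mul_right_cancel (g.isUnit.star.mul_left_cancel ?_)
    change star (g : h.EB) * (star (cj h.EB g (h.eb (μ l))) * g) = star (g : h.EB) * (cj h.EB g (h.eb (μ l)) * g)
    rw [← mul_assoc, ← star_mul, g3, star_mul, mul_assoc, ← mul_assoc (star (g : h.EB)), g1, t4]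
  · refine cj_eq_of_mul (a := h.eb (μ (ι w))) ?_
    rw [t5]
    exact g2 _ (by rw [← t5, ← t4, t5, hs _ w.2])
  · obtain ⟨m, hm⟩ := Φ.surjective (h.ap (g⁻¹ : h.EBˣ) x)
    refine ⟨m.1, m.2, ?_⟩
    change h.ap (cj h.EB g (h.eb (μ m.1))) _ + θ • h.ap (cj h.EB g (h.eb (μ m.2))) _ = x
    rw [← h.ap_mul, ← h.ap_mul, g3, g3, h.ap_mul, h.ap_mul, h.ap_eb, h.ap_eb, hμ, hμ, ← map_smul, ← map_add, ← a2, ← map_add,
      show m.1 • ((1 : L), (0 : L)) + J (m.2 • ((1 : L), (0 : L))) = m by simp [hJ], hm, ← h.ap_mul, Units.mul_inv,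
      h.ap_one]

/-- the unitary case -/
theorem ext_U [Nontrivial V] (hε : h.ε = 1) (hθ : h.τ θ ≠ θ) (hK : Nat.card K = Nat.card (C0 h.EB) ^ 2) (hW : IsF W)
    (h0 : C0 h.EB ≤ W) (hs : ∀ w ∈ W, star w = w) : ∃ Y, Ext (h.eb (θ • 1)) W Y (finrank K V) := by
  obtain ⟨L, _, ι, e, he, hb⟩ := free hθ hW h0 hs
  obtain ⟨μ, v, h1, h2, h3⟩ := exists_symm hε hθ h0 hs ι e he hb
  refine ext_of (luU h hθ) μ (fun l => ⟨μ l, h1 l, rfl⟩) h0 hs (fun w hw => ⟨_, (h2 ⟨w, hw⟩).symm⟩)
    (Nat.pow_left_injective two_ne_zero ?_) h3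
  change _ ^ 2 = _ ^ 2
  rw [pow_two, ← Nat.card_prod, Nat.card_eq_of_bijective _ hb, Module.natCard_eq_pow_finrank (K := K), hK, ← pow_mul,
    ← pow_mul, mul_comm]

theorem card_C0 [Nontrivial V] (hθ : h.τ θ ≠ θ) : Nat.card K = Nat.card (C0 h.EB) ^ 2 := by
  have u := luU h hθ
  have a1 := qd_of u.θ_cen u.θ_unit (isF_C0 h.ss) (fun _ hx => hx.2) le_rfl
  rw [← a1.card_eq, le_antisymm (Zt_le (W := C0 h.EB) (fun _ hx => hx.1) u.θ_cen) fun _ hx => a1.mem_iff.2 (cen_rep u hx),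
    card_scal u le_rfl (fun _ _ e => e) fun z hz => ⟨z, hz, rfl⟩]

end FldLU

open FldLU Cfsg.Agent.DS.Cl Cfsg.Agent.DS.Cl.Fwd Cfsg.Agent.SB.Fld Module

/-- **field extension subgroups of the unitary groups** -/
theorem fldU : OnU 5 pFld := by
  intro K V _ _ _ _ _ h F q H p k hn c hF
  obtain ⟨hε, θ, hθ⟩ := k.u
  have u := luU h hθ
  have : Nontrivial V := Module.nontrivial_of_finrank_pos (R := K) (by omega)
  have a1 := card_C0 hθ
  have a2 : Nat.card (C0 h.EB) = q := Nat.pow_left_injective two_ne_zero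
    (a1.symm.trans (Nat.card_eq_fintype_card.trans k.card))
  refine crit (e := q + 1) c hF u.θ_cen u.θ_unit (fun W r hW => ext_U hε hθ a1 hW.isF hW.le hW.sym) hn q.succ_pos
    (by omega) (fun h2 _ => ?_) fun g hg => k.mem_comm (pow_mem (mem_Iso_max k.L hg) _) ?_
  · have b0 : θ ≠ 0 := fun e => hθ (by rw [e, map_zero])
    have b1 : θ ^ 3 = 1 := by
      have b1 := FiniteField.pow_card_sub_one_eq_one θ b0
      rwa [k.card, ← a2, h2] at b1
    have b2 : h.τ θ = θ ^ 2 := by rw [Cyc.tau_pow k.u k.card, ← a2, h2]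
    refine ⟨h.eb (θ • 1), u.θ_cen, ?_, fun e => hθ ?_, ?_⟩
    · rw [star_smul_one, b2]
      exact (smul_mul_smul_comm θ (1 : End K V) _ 1).trans (by rw [← pow_succ', b1, one_mul, one_smul]; rfl)
    · rw [smul_left_injective K (one_ne_zero (α := End K V)) ((show θ • (1 : End K V) = 1 from e).trans (one_smul K _).symm),
        map_one]
    · exact (smul_pow θ (1 : End K V) 3).trans (by rw [b1, one_pow, one_smul]; rfl)
  · rw [Units.val_pow_eq_pow_val]
    exact (map_pow LinearMap.det (h.ap g) _).trans (Cyc.det_pow_U k (mem_Iso_max k.L hg))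

end Cfsg.Agent.N2C
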