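import Cfsg.Agent.N2.Cl.Fld.Red
import Cfsg.Agent.TH.Cl.FldLU.Main

/-!
# N2, field extension subgroups of linear and unitary groups: the criterion (helper52)

`W` is the invariant field, `Y` a symmetric field of degree `n` over `C0 A` which contains `W` and has the centraliser
`Y + Y θ`.  A generator of the torus of `Y + Y θ` gives an element which normalises only one conjugate of `W`.
-/

set_option autoImplicit false

namespace Cfsg.Agent.N2C.FldLU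

open Cfsg.Agent.DS.Cl Cfsg.Agent.DS.Cl.Fwd Cfsg.Agent.SB.C2 Cfsg.Agent.SB.Fld Cfsg.Agent.TH.Cl.Fld
open scoped commutatorElement

theorem num_two {k : ℕ} (hk : 4 ≤ k) : 9 * (k + 2) + 2 ≤ 4 * 2 ^ k := by
  induction k, hk using Nat.le_induction with
  | base => norm_num
  | succ k _ ih => rw [pow_succ]; omega

set_option synthInstance.maxSize 2000 in
theorem num_small : ∀ n ∈ Finset.Icc 5 6, ∀ d ∈ Finset.Icc 1 3, ∀ r ∈ Finset.range 6, ∀ e ∈ Finset.Icc 1 3,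
    ∀ m ∈ Finset.Icc 1 (2 ^ d + 1), ∀ o ∈ Finset.Icc (2 ^ n - 1) (2 ^ n + 1), d ∣ n → r ∣ n → o ∣ e * r * m →
      e = 3 ∧ r = 3 ∧ d = 3 ∧ o = 63 ∧ m = 7 := by
  decide +kernel

theorem num {q n r d e m o : ℕ} (hq : 2 ≤ q) (hn : 5 ≤ n) (hr : r.Prime) (h1 : r ∣ n) (h2 : d ∣ n) (h3 : d < n) (e0 : 0 < e)
    (he : e ≤ q + 1) (m0 : 0 < m) (hm : m ≤ q ^ d + 1) (ho : q ^ n ≤ o + 1) (ho' : o ≤ q ^ n + 1) (hd : o ∣ e * r * m) :
    q = 2 ∧ e = 3 ∧ r = 3 ∧ d = 3 ∧ o = 63 ∧ m = 7 := by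
  have half : ∀ {a : ℕ}, a ∣ n → a ≠ n → 2 * a ≤ n := fun {a} ⟨i, hi⟩ h => by
    rcases i with _ | _ | i
    · omega
    · omega
    · nlinarith
  have a1 := half h2 h3.ne
  have d0 : 0 < d := Nat.pos_of_dvd_of_pos h2 (by omega)
  have a2 : r = n ∧ d = 1 ∨ 2 * r ≤ n := by
    by_cases h : r = n
    · exact .inl ⟨h, ((Nat.dvd_prime hr).1 (h ▸ h2)).resolve_right (by omega)⟩
    · exact .inr (half h1 h)
  have a3 : r ≠ 4 := fun h => by rw [h] at hr; exact absurd hr (by decide)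
  by_cases hs : q = 2 ∧ n < 7
  · obtain ⟨rfl, h7⟩ := hs
    have a6 : r ≠ 6 := fun h => by rw [h] at hr; exact absurd hr (by decide)
    exact ⟨rfl, num_small n (Finset.mem_Icc.2 ⟨hn, by omega⟩) d (Finset.mem_Icc.2 ⟨d0, by omega⟩) r
      (Finset.mem_range.2 (by omega)) e (Finset.mem_Icc.2 ⟨e0, he⟩) m (Finset.mem_Icc.2 ⟨m0, hm⟩) o
      (Finset.mem_Icc.2 ⟨by omega, ho'⟩) h2 h1 hd⟩
  exfalso
  obtain ⟨k, rfl⟩ : ∃ k, n = d + 1 + k := ⟨n - d - 1, by omega⟩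
  have b1 : 9 * r + 2 ≤ 4 * q ^ k := by
    by_cases h4 : 4 ≤ k
    · have := num_two h4
      have := Nat.pow_le_pow_left hq k
      omega
    have h5 : k = 2 ∨ k = 3 := by omega
    by_cases h6 : q = 2
    · obtain rfl : k = 3 := by omega
      subst h6
      omega
    · have h7 := Nat.pow_le_pow_left (show 3 ≤ q by omega) k
      rcases h5 with rfl | rfl <;> omega
  have b2 : q ≤ q ^ d := Nat.le_self_pow d0.ne' q
  have b3 := Nat.le_of_dvd (Nat.mul_pos (Nat.mul_pos e0 hr.pos) m0) hd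
  rw [pow_add, pow_succ] at ho
  generalize q ^ d = Q at hm ho b2
  generalize q ^ k = P at ho b1
  have b4 : 4 * (e * m) ≤ 9 * (Q * q) := by nlinarith [Nat.mul_le_mul he hm]
  have b5 : 4 ≤ Q * q := by nlinarith
  generalize Q * q = R at ho b4 b5
  have b6 := Nat.mul_le_mul_left R b1
  have b7 := Nat.mul_le_mul_left r b4
  nlinarith

variable {A : Type} [Ring A] [StarRing A] [Finite A] [Nontrivial A] {W Y : Subring A} {θ : A} {r n e : ℕ}

/-- the torus of `Y + Y θ` -/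
theorem tor (h : Qd Y θ) : (∃ t ∈ Zt Y θ, t * star t = 1 ∧ ∀ m, 0 < m → t ^ m = 1 → Nat.card Y ≤ m + 1) ∧
    ∀ X ≤ Y, ∀ u ∈ Zt Y θ, u * star u = 1 → u + star u ∈ X → ∃ m, 0 < m ∧ m ≤ Nat.card X + 1 ∧ u ^ m = 1 := by
  let _ : CommRing (Zt Y θ) := { (inferInstance : Ring (Zt Y θ)) with
    mul_comm := fun x y => Subtype.ext (h.mul_comm _ x.2 _ y.2) }
  let _ : StarRing (Zt Y θ) :=
    { star := fun x => ⟨star x.1, h.star_mem _ x.2⟩
      star_involutive := fun x => Subtype.ext (star_star x.1)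
      star_mul := fun x y => Subtype.ext (star_mul x.1 y.1)
      star_add := fun x y => Subtype.ext (star_add x.1 y.1) }
  obtain ⟨M, hM⟩ := Ideal.exists_maximal (Zt Y θ)
  let _ := Ideal.Quotient.field M
  have hθ : IsUnit ((⟨θ, self_mem_Zt⟩ : Zt Y θ) - star (⟨θ, self_mem_Zt⟩ : Zt Y θ)) := by
    obtain ⟨y, hy, -, e⟩ := h.exists_inv (sub_mem self_mem_Zt h.star_self) (h.unit.star.mul h.unit).ne_zero
    exact IsUnit.of_mul_eq_one ⟨y, hy⟩ (Subtype.ext e)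
  have h0 : ∀ a (ha : a ∈ Y), Ideal.Quotient.mk M ⟨a, le_Zt ha⟩ = 0 → a = 0 := fun a ha e => by
    by_contra h1
    obtain ⟨b, hb, e'⟩ := h.isF.inv a ha h1
    have h2 : (⟨a, le_Zt ha⟩ : Zt Y θ) * ⟨b, le_Zt hb⟩ = 1 := Subtype.ext e'
    have h3 := congrArg (Ideal.Quotient.mk M) h2
    rw [map_mul, e, zero_mul, map_one] at h3
    exact zero_ne_one h3
  have hρ : Sep (Ideal.Quotient.mk M) := fun z h1 h2 => by
    obtain ⟨a, ha, b, hb, e⟩ := h.mem_iff.1 z.2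
    have h3 : z - star z = ⟨b, le_Zt hb⟩ * (⟨θ, self_mem_Zt⟩ - star ⟨θ, self_mem_Zt⟩) :=
      Subtype.ext (show z.1 - star z.1 = b * (θ - star θ) by rw [e, h.sub_star ha hb])
    have h4 := congrArg (Ideal.Quotient.mk M) h3
    rw [map_sub, h1, h2, sub_zero, map_mul] at h4
    rw [h0 b hb ((hθ.map _).mul_left_eq_zero.1 h4.symm), zero_mul, add_zero] at e
    exact Subtype.ext (e.trans (h0 a ha (by rw [← h1]; exact congrArg _ (Subtype.ext e.symm))))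
  have hc : ∀ X ≤ Y, Nat.card (X.comap (Zt Y θ).subtype) = Nat.card X := fun X hX =>
    Nat.card_congr ⟨fun x => ⟨x.1.1, x.2⟩, fun x => ⟨⟨x.1, le_Zt (hX x.2)⟩, x.2⟩, fun _ => rfl, fun _ => rfl⟩
  refine ⟨?_, fun X hX u hu h1 h2 => ?_⟩
  · obtain ⟨t, h1, h2⟩ := hρ.exists_gen hθ
    refine ⟨t, t.2, congrArg Subtype.val h1, fun m hm e => ?_⟩
    rw [← hc Y le_rfl, show Y.comap (Zt Y θ).subtype = sym _ from Subring.ext fun x =>
      ⟨fun hx => Subtype.ext (h.sym _ hx), fun hx => h.mem_of_sym x.2 (congrArg Subtype.val hx)⟩]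
    exact h2 m hm (Subtype.ext e)
  · obtain ⟨m, a1, a2, a3⟩ := hρ.pow_cases (X.comap (Zt Y θ).subtype) (fun x hx => Subtype.ext (h.sym _ (hX hx)))
      (u := ⟨u, hu⟩) (Subtype.ext h1) h2
    exact ⟨m, a1, hc X hX ▸ a2, congrArg Subtype.val a3⟩

omit [Finite A] [Nontrivial A] in
theorem qd_of (hθ : θ ∈ Subring.center A) (hu : IsUnit (θ - star θ)) (hY : IsF Y) (hs : ∀ y ∈ Y, star y = y)
    (h0 : C0 A ≤ Y) : Qd Y θ :=
  ⟨hY, hs, fun x _ => cen_comm hθ x, h0 ⟨add_mem hθ (star_cen hθ), by rw [star_add, star_star, add_comm]⟩,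
    h0 ⟨mul_mem hθ (star_cen hθ), by rw [star_mul, star_star]⟩, hu⟩

/-- the symmetric field of degree `n` -/
structure Ext (θ : A) (W Y : Subring A) (n : ℕ) : Prop where
  isF : IsF Y
  sym : ∀ y ∈ Y, star y = y
  le : W ≤ Y
  card : Nat.card Y = Nat.card (C0 A) ^ n
  cent : ∀ x, (∀ y ∈ Y, y * x = x * y) → x ∈ Zt Y θ

/-- the generator -/
theorem exists_gen (hθ : θ ∈ Subring.center A) (hu : IsUnit (θ - star θ)) (hW : SymF W r) (h : Ext θ W Y n) (hn : 5 ≤ n)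
    (e0 : 0 < e) (he : e ≤ Nat.card (C0 A) + 1)
    (hω : Nat.card (C0 A) = 2 → e = 3 → ∃ ω ∈ Subring.center A, ω * star ω = 1 ∧ ω ≠ 1 ∧ ω ^ 3 = 1) :
    ∃ t ∈ Zt Y θ, t * star t = 1 ∧ ∀ x, star x = x → t ^ (e * r) * x = x * t ^ (e * r) → x ∈ Y := by
  have hq := qd_of hθ hu h.isF h.sym (hW.le.trans h.le)
  obtain ⟨⟨t, t1, t2, t3⟩, hp⟩ := tor hq
  refine ⟨t, t1, t2, fun x x1 x2 => ?_⟩
  have h2 := two_le_card (C0 A)
  have inj : ∀ {a b : ℕ}, Nat.card (C0 A) ^ a = Nat.card (C0 A) ^ b → a = b := fun e => Nat.pow_right_injective h2 e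
  let X : Subring A := Y ⊓ Subring.centralizer {x}
  have mX : ∀ {y}, y ∈ Y → y * x = x * y → y ∈ X := fun hy e => ⟨hy, by rintro _ rfl; exact e.symm⟩
  have X0 : C0 A ≤ X := fun y hy => mX (h.le (hW.le hy)) (cen_comm hy.1 x).symm
  by_cases hX : X = Y
  · exact hq.mem_of_sym (h.cent x fun y hy => ((hX.ge hy).2 x rfl).symm) x1
  exfalso
  obtain ⟨i, hi⟩ := exists_card_pow h.isF (inf_le_left : X ≤ Y)
  obtain ⟨d, hd⟩ := exists_card_pow (isF_of_le h.isF inf_le_left) X0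
  obtain ⟨j, hj⟩ := exists_card_pow h.isF h.le
  have a1 : n = d * i := inj (by rw [← h.card, hi, hd, pow_mul])
  have a2 : n = r * j := inj (by rw [← h.card, hj, hW.card, pow_mul])
  have a3 : d < n := lt_of_le_of_ne (Nat.le_of_dvd (by omega) ⟨i, a1⟩) fun e =>
    hX (eq_of_le_of_card inf_le_left (by rw [h.card, hd, e]))
  have uni : ∀ {u : A}, u * star u = 1 → ∀ k, u ^ k * star (u ^ k) = 1 := fun {u} e k => by
    rw [star_pow, ← Commute.mul_pow (e.trans (mul_eq_one_comm.1 e).symm), e, one_pow]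
  have key : ∀ v ∈ Zt Y θ, v * star v = 1 → v * x = x * v → ∃ m, 0 < m ∧ m ≤ Nat.card (C0 A) ^ d + 1 ∧ v ^ m = 1 :=
    fun v v1 v2 v3 => hd ▸ hp X inf_le_left v v1 v2 (mX (hq.trace_mem v1) (by
      have v4 := congrArg star v3
      rw [star_mul, star_mul, x1] at v4
      rw [add_mul, mul_add, v3, v4]))
  obtain ⟨m, m0, m1, m2⟩ := key _ (pow_mem t1 _) (uni t2 _) x2
  obtain ⟨k, k0, k1, k2⟩ := hp Y le_rfl t t1 t2 (hq.trace_mem t1)
  have o0 : 0 < orderOf t := (isOfFinOrder_iff_pow_eq_one.2 ⟨k, k0, k2⟩).orderOf_pos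
  obtain ⟨b1, rfl, rfl, rfl, b5, rfl⟩ := num h2 hn hW.prime ⟨j, a2⟩ ⟨i, a1⟩ a3 e0 he m0 m1
    (h.card ▸ t3 _ o0 (pow_orderOf_eq_one t)) (h.card ▸ (orderOf_le_of_pow_eq_one k0 k2).trans k1)
    (orderOf_dvd_of_pow_eq_one (by rw [pow_mul, m2]))
  obtain ⟨ω, w1, w2, w3, w4⟩ := hω b1 rfl
  have w5 := h.cent ω fun y _ => cen_comm w1 y
  have w6 : Commute ω (t ^ (3 * 3)) := (cen_comm w1 _).symm
  obtain ⟨l, l0, l1, l2⟩ := key _ (mul_mem w5 (pow_mem t1 (3 * 3)))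
    (by rw [star_mul, mul_assoc, ← mul_assoc (t ^ _), uni t2, one_mul, w2])
    (by rw [mul_assoc, x2, ← mul_assoc, ← cen_comm w1, mul_assoc])
  rw [w6.mul_pow] at l2
  have l3 := congrArg (· ^ 3) l2
  simp only [(w6.pow_pow l l).mul_pow] at l3
  rw [← pow_mul, mul_comm l, pow_mul, w4, one_pow, one_mul, ← pow_mul, ← pow_mul, one_pow] at l3
  have l4 := orderOf_dvd_of_pow_eq_one l3
  rw [b1] at l1
  obtain rfl : l = 7 := by rw [b5] at l4; omega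
  rw [m2, mul_one, show 7 = 3 * 2 + 1 from rfl, pow_succ, pow_mul, w4, one_pow, one_mul] at l2
  exact w3 l2

omit [Nontrivial A] in
/-- **the criterion** -/
theorem crit {F : FR A} {H : Subgroup (RingAut A)} {p : ℕ} (c : Ctx F H p) (hF : TH.Cl.FldD H) (hθ : θ ∈ Subring.center A)
    (hu : IsUnit (θ - star θ)) (h : ∀ W r, SymF W r → ∃ Y, Ext θ W Y n) (hn : 5 ≤ n) (e0 : 0 < e)
    (he : e ≤ Nat.card (C0 A) + 1)
    (hω : Nat.card (C0 A) = 2 → e = 3 → ∃ ω ∈ Subring.center A, ω * star ω = 1 ∧ ω ≠ 1 ∧ ω ^ 3 = 1)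
    (hI : ∀ u : Aˣ, (u : A) * star (u : A) = 1 → u ^ e ∈ (⁅F.Iso, F.Iso⁆ : Subgroup Aˣ)) : Gd F H := by
  have := c.ss.nontrivial
  obtain ⟨W, r, hW, hH, hS, hr⟩ := Fld.red_LU c hθ hu hF
  obtain ⟨Y, h⟩ := h W r hW
  obtain ⟨t, t1, t2, t3⟩ := exists_gen hθ hu hW h hn e0 he hω
  have hq := qd_of hθ hu h.isF h.sym (hW.le.trans h.le)
  refine Fld.gd_one c hH hS (hI (mkU t t2) t2) (fun x hx => ?_) hr fun s hs h1 w hw =>
    mem_of_pow h.isF h.le (t3 _ (by rw [← F.Aut_le_SAut (F.S_le_Aut hs), hW.sym w hw]) ?_)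
      (by rw [← map_pow, pow_card hW.isF hw])
  · rw [Units.val_pow_eq_pow_val]
    exact hq.mul_comm _ (pow_mem t1 e) _ (le_Zt (h.le hx))
  · have a1 := h1 w hw
    rwa [Units.val_pow_eq_pow_val, ← pow_mul] at a1

end Cfsg.Agent.N2C.FldLU
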