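import Cfsg.Agent.N2.Cl.FldLU.Crit
import Cfsg.Agent.TH.Cl.Big.Mem

/-!
# N2, field extension subgroups: the field of degree `n`, and the linear groups (helper52)
-/

set_option autoImplicit false

namespace Cfsg.Agent.N2C

open Cfsg.Agent.DS.Cl Cfsg.Agent.DS.Cl.Fwd Cfsg.Agent.SB.C2 Cfsg.Agent.SB.Fld Cfsg.Agent.TH.Cl.Fld Module

namespace FldLU

/-- a finite vector space is an extension field -/
theorem exists_L (E M : Type) [Field E] [Finite E] [AddCommGroup M] [Module E M] [Finite M] [Nontrivial M] :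
    ∃ (L : Type) (_ : Field L) (ι : E →+* L) (e : L ≃+ M), ∀ w a, e (ι w * a) = w • e a := by
  have : Module.Finite E M := Module.Finite.of_finite
  obtain ⟨r, hr⟩ := CharP.exists E
  have : Fact r.Prime := ⟨CharP.char_is_prime E r⟩
  have : NeZero (finrank E M) := ⟨finrank_pos.ne'⟩
  let e := LinearEquiv.ofFinrankEq _ M (FiniteField.finrank_extension E r (finrank E M))
  exact ⟨_, _, algebraMap E _, e.toAddEquiv, fun w a => by rw [← Algebra.smul_def]; exact e.map_smul w a⟩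

variable {A : Type} [Ring A] [StarRing A] {K V : Type} [Field K] [AddCommGroup V] [Module K V] {π : A →+* End K V}
  {c η θ : A} {L : Type} [Field L] {W : Subring A} {n : ℕ}

/-- the action of `L` on `V` -/
theorem exists_mu {M : Type} [AddCommGroup M] [Module L M] (Φ : M ≃+ V)
    (hk : ∀ k : K, ∃ f : M →ₗ[L] M, ∀ m, Φ (f m) = k • Φ m) : ∃ μ : L →+* End K V, ∀ l m, μ l (Φ m) = Φ (l • m) := by
  refine ⟨{ toFun := fun l =>
              { toFun := fun x => Φ (l • Φ.symm x)
                map_add' := fun x y => by rw [map_add, smul_add, map_add]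
                map_smul' := fun k x => ?_ }
            map_one' := LinearMap.ext fun x => by simp
            map_mul' := fun a b => LinearMap.ext fun x => by simp [mul_smul]
            map_zero' := LinearMap.ext fun x => by simp
            map_add' := fun a b => LinearMap.ext fun x => by simp [add_smul] }, fun l m => by simp⟩
  obtain ⟨f, hf⟩ := hk k
  obtain ⟨m, rfl⟩ := Φ.surjective x
  rw [← hf, Φ.symm_apply_apply, Φ.symm_apply_apply, ← map_smul, hf, RingHom.id_apply]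

/-- the symmetric lifts of the image of `L` -/
theorem ext_of [Nontrivial V] (h : LU π c η θ) (μ : L →+* End K V) (h1 : ∀ l, ∃ a, star a = a ∧ π a = μ l) (h0 : C0 A ≤ W)
    (hs : ∀ w ∈ W, star w = w) (h2 : ∀ w ∈ W, ∃ l, π w = μ l) (hc : Nat.card L = Nat.card (C0 A) ^ n) {v : V}
    (hv : ∀ x, ∃ a b, μ a v + π θ (μ b v) = x) : ∃ Y, Ext θ W Y n := by
  have com : ∀ {a b : A} {l l' : L}, star a = a → star b = b → π a = μ l → π b = μ l' → a * b = b * a :=
    fun {a b l l'} a1 b1 a2 b2 => by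
      have e : π (a * b) = π (b * a) := by rw [map_mul, map_mul, a2, b2, ← map_mul, ← map_mul, mul_comm]
      exact sub_eq_zero.1 (h.sep _ (by rw [map_sub, e, sub_self])
        (by rw [star_sub, star_mul, star_mul, a1, b1, map_sub, e, sub_self]))
  let Y : Subring A :=
    { carrier := {a | star a = a ∧ ∃ l, π a = μ l}
      mul_mem' := by
        rintro a b ⟨a1, l, a2⟩ ⟨b1, l', b2⟩
        exact ⟨by rw [star_mul, a1, b1, com a1 b1 a2 b2], l * l', by rw [map_mul, map_mul, a2, b2]⟩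
      one_mem' := ⟨star_one A, 1, by rw [map_one, map_one]⟩
      add_mem' := by
        rintro a b ⟨a1, l, a2⟩ ⟨b1, l', b2⟩
        exact ⟨by rw [star_add, a1, b1], l + l', by rw [map_add, map_add, a2, b2]⟩
      zero_mem' := ⟨star_zero A, 0, by rw [map_zero, map_zero]⟩
      neg_mem' := by
        rintro a ⟨a1, l, a2⟩
        exact ⟨by rw [star_neg, a1], -l, by rw [map_neg, map_neg, a2]⟩ }
  have hY : IsF Y := ⟨fun a ⟨a1, _, a2⟩ b ⟨b1, _, b2⟩ => com a1 b1 a2 b2, fun a ⟨a1, l, a2⟩ a0 => by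
    obtain ⟨b, b1, b2⟩ := h1 l⁻¹
    refine ⟨b, ⟨b1, _, b2⟩, sub_eq_zero.1 (h.sep_symm (by rw [star_sub, star_mul, a1, b1, star_one, com a1 b1 a2 b2]) ?_)⟩
    rw [map_sub, map_mul, a2, b2, ← map_mul, mul_inv_cancel₀ fun e => a0 (h.sep_symm a1 (by rw [a2, e, map_zero])),
      map_one, map_one, sub_self]⟩
  have hle : W ≤ Y := fun w hw => ⟨hs w hw, h2 w hw⟩
  have hq := qd_of h.θ_cen h.θ_unit hY (fun _ hy => hy.1) (h0.trans hle)
  have cyc : ∀ x, ∃ z ∈ Zt Y θ, π z v = x := fun x => by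
    obtain ⟨a, b, rfl⟩ := hv x
    obtain ⟨a', a1, a2⟩ := h1 a
    obtain ⟨b', b1, b2⟩ := h1 b
    exact ⟨a' + b' * θ, hq.mem_iff.2 ⟨a', ⟨a1, _, a2⟩, b', ⟨b1, _, b2⟩, rfl⟩, by
      rw [cen_comm h.θ_cen, map_add, map_mul, a2, b2]; rfl⟩
  have cen : Subring.center A ≤ Zt Y θ := fun x hx => by
    obtain ⟨a, ha, b, hb, e⟩ := cen_rep h hx
    exact hq.mem_iff.2 ⟨a, hle (h0 ha), b, hle (h0 hb), e⟩
  have key : ∀ x, (∀ y ∈ Y, y * x = x * y) → c * x ∈ Zt Y θ := fun x hx => by
    obtain ⟨z, hz, e⟩ := cyc (π x v)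
    have a1 := h.c_ker (x - z) (LinearMap.ext fun y => by
      obtain ⟨u, hu, rfl⟩ := cyc y
      rw [← End.mul_apply, ← map_mul, sub_mul, ← Qd.comm_of hx (cen_comm h.θ_cen x).symm u hu, hq.mul_comm z hz u hu,
        ← mul_sub, map_mul, End.mul_apply, map_sub π, LinearMap.sub_apply, e, sub_self, map_zero, LinearMap.zero_apply])
    rw [mul_sub, sub_eq_zero] at a1
    exact a1 ▸ mul_mem (cen h.c_cen) hz
  refine ⟨Y, hY, fun _ hy => hy.1, hle, hc ▸ (Nat.card_congr (Equiv.ofBijective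
    (fun l => (⟨(h1 l).choose, (h1 l).choose_spec.1, l, (h1 l).choose_spec.2⟩ : Y)) ⟨fun a b e => μ.injective ?_,
      fun ⟨a, a1, l, a2⟩ => ⟨l, Subtype.ext (sub_eq_zero.1 (h.sep_symm (a := (h1 l).choose - a) ?_ ?_))⟩⟩)).symm, fun x hx => ?_⟩
  · rw [← (h1 a).choose_spec.2, ← (h1 b).choose_spec.2]
    exact congrArg π (congrArg Subtype.val e)
  · rw [star_sub, (h1 l).choose_spec.1, a1]
  · rw [map_sub, (h1 l).choose_spec.2, a2, sub_self]
  · have a1 := hq.star_mem _ (key (star x) fun y hy => by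
      have a1 := congrArg star (hx y hy)
      rw [star_mul, star_mul, hy.1] at a1
      exact a1.symm)
    rw [star_mul, star_star, cen_comm (star_cen h.c_cen)] at a1
    have a2 := add_mem (key x hx) a1
    rwa [← add_mul, h.c_add, one_mul] at a2

/-- the linear case -/
theorem ext_L [Finite A] [Nontrivial A] [Finite V] [Nontrivial V] (h : LU π θ θ θ) (hW : IsF W) (h0 : C0 A ≤ W)
    (hs : ∀ w ∈ W, star w = w) : Nat.card (C0 A) = Nat.card K ∧ ∃ Y, Ext θ W Y (finrank K V) := by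
  have a0 : π (star θ) = 0 := by rw [eq_sub_of_add_eq' h.c_add, map_sub, map_one, h.η_one, sub_self]
  have a1 : ∀ a, π (θ * a + star (θ * a)) = π a := fun a => by
    rw [map_add, star_mul, map_mul, map_mul, a0, h.η_one, one_mul, mul_zero, add_zero]
  have a2 : ∀ a : A, star (a + star a) = a + star a := fun a => by rw [star_add, star_star, add_comm]
  have a3 : ∀ z ∈ Subring.center A, ∃ x ∈ C0 A, π x = π z := fun z hz =>
    ⟨_, ⟨add_mem (mul_mem h.θ_cen hz) (star_cen (mul_mem h.θ_cen hz)), a2 _⟩, a1 z⟩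
  have a4 := card_scal h (X := C0 A) (fun _ hx => hx.1) (fun x hx => h.sep_symm hx.2) a3
  refine ⟨a4, ?_⟩
  let := hW.isField.toField
  let : Module W V := Module.compHom V (π.comp W.subtype)
  obtain ⟨L, _, ι, e, he⟩ := exists_L W V
  obtain ⟨μ, hμ⟩ := exists_mu (K := K) (L := L) e fun k => by
    obtain ⟨d, hd, e1⟩ := h.exists_cen k
    obtain ⟨x, hx, e2⟩ := a3 d hd
    exact ⟨LinearMap.mulLeft L (ι ⟨x, h0 hx⟩), fun m => (he _ m).trans (LinearMap.congr_fun (e2.trans e1) (e m))⟩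
  refine ext_of h μ (fun l => ?_) h0 hs (fun w hw => ⟨ι ⟨w, hw⟩, LinearMap.ext fun x => ?_⟩) ?_ (v := e 1) fun x => ?_
  · obtain ⟨a, ha⟩ := h.surj (μ l)
    exact ⟨_, a2 _, (a1 a).trans ha⟩
  · obtain ⟨m, rfl⟩ := e.surjective x
    exact ((hμ _ m).trans (he ⟨w, hw⟩ m)).symm
  · rw [a4, Nat.card_congr e.toEquiv, Module.natCard_eq_pow_finrank (K := K)]
  · exact ⟨e.symm x, 0, by rw [map_zero, LinearMap.zero_apply, map_zero, add_zero, hμ, smul_eq_mul, mul_one,
      e.apply_symm_apply]⟩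

end FldLU

open FldLU

/-- **field extension subgroups of the linear groups** -/
theorem fldL : OnL 5 pFld := by
  intro K _ _ n F H p k hn c hF
  have h := luL (n := n) (K := K)
  have : Finite (LR (Fin n) K) := inferInstanceAs (Finite (_ × _))
  have := c.ss.nontrivial
  have : Nonempty (Fin n) := ⟨⟨0, by omega⟩⟩
  have h1 := (ext_L h (isF_C0 c.ss) le_rfl fun _ hx => hx.2).1
  have h2 := Fintype.one_lt_card (α := K)
  rw [Nat.card_eq_fintype_card (α := K)] at h1
  refine crit (n := finrank K (Fin n → K)) (e := Fintype.card K - 1) c hF h.θ_cen h.θ_unit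
    (fun W r hW => (ext_L h hW.isF hW.le hW.sym).2) (by simpa using hn) (by omega) (by omega) (by omega) fun u hu =>
      k.mem_comm (pow_mem (mem_Iso_max (F.L_eq h.c_cen h.c_add) hu) _) ?_
  rw [Units.val_pow_eq_pow_val, map_pow, map_pow]
  exact FiniteField.pow_card_sub_one_eq_one _ (LinearMap.isUnit_det _ (u.isUnit.map (prL n K))).ne_zero

end Cfsg.Agent.N2C
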